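import Cfsg.Agent.H47.Y555.Embed

/-!
In the Y532 group with the spider relation the end node of the long arm is the ninth power of a
Coxeter element of an E7 sub-diagram.
-/

set_option autoImplicit false
set_option maxRecDepth 100000

namespace H47.Y555

open H93.Coset
open H93

/-- the generators of the Y532 group -/
noncomputable abbrev g11 : ℕ → U 11 := ug 11

/-- the element `(d e c h f b g)^9` -/
noncomputable abbrev wE : U 11 := ev g11 wW

/-- the element `(a b c d e f h)^9` -/
noncomputable abbrev uE : U 11 := ev g11 uW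

theorem g11_rel9 : ∀ w ∈ relsN 9, ev g11 w = 1 := fun w hw =>
  ug_rel ((show ∀ w ∈ relsN 9, w ∈ relsN 11 by decide +kernel) w hw)

theorem wE_mul : wE * wE = 1 := by
  rw [← ev_append]
  exact word9 g11 g11_rel9 (by decide +kernel) (by decide +kernel) (by decide +kernel)

theorem wE_inv : wE⁻¹ = wE := inv_eq_of_mul_eq_one_right wE_mul

theorem uE_mul : uE * uE = 1 := by
  rw [← ev_append]
  exact word9 g11 g11_rel9 (by decide +kernel) (by decide +kernel) (by decide +kernel)

/-- the commutator of a generator and a word -/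
def comW (X : List ℕ) (k : ℕ) : List ℕ := [k] ++ X ++ [k] ++ X.reverse

theorem comm9 {X : List ℕ} (hX : ∀ g ∈ X, g < 9)
    (hc : (List.range 9).all (fun k => inFi23 (comW X k)) = true)
    (he : (List.range 9).all (fun k => (comW X k).length % 2 == 0) = true) {k : ℕ} (hk : k < 9) :
    Commute (g11 k) (ev g11 X) := by
  have h := word9 g11 g11_rel9 (w := comW X k) (by
    intro g hg
    simp only [comW, List.mem_append, List.mem_cons, List.not_mem_nil, or_false,
      List.mem_reverse] at hg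
    rcases hg with ((rfl | h) | rfl) | h
    · exact hk
    · exact hX g h
    · exact hk
    · exact hX g h) (List.all_eq_true.mp hc k (List.mem_range.mpr hk))
    (by simpa using List.all_eq_true.mp he k (List.mem_range.mpr hk))
  rw [comW, ev_append, ev_append, ev_append, ev_reverse g11 (fun g hg => ug_inv hg) X
    (fun g hg => show g < 11 from lt_trans (hX g hg) (by decide))] at h
  simp only [ev, one_mul] at h
  rw [inv_mul_eq_one] at h
  have e : g11 k * g11 k = 1 := ug_inv (by omega)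
  show g11 k * ev g11 X = ev g11 X * g11 k
  calc g11 k * ev g11 X = g11 k * (g11 k * (ev g11 X * g11 k)) := by rw [← h]
    _ = ev g11 X * g11 k := by rw [← mul_assoc, e, one_mul]

theorem comm_far {X : List ℕ} {k : ℕ} (hk : k < 11) (h : ∀ g ∈ X, g < 11 ∧ lab k g = 2) :
    Commute (g11 k) (ev g11 X) :=
  ev_commute fun g hg => ug_comm hk (h g hg).1 (h g hg).2

theorem wE_comm {k : ℕ} (hk : k < 9) : Commute (g11 k) wE :=
  comm9 (by decide +kernel) (by decide +kernel) (by decide +kernel) hk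

theorem uE_comm : ∀ k < 11, Commute (g11 k) uE := by
  intro k hk
  rcases Nat.lt_or_ge k 9 with h | h
  · exact comm9 (by decide +kernel) (by decide +kernel) (by decide +kernel) h
  · exact comm_far hk ((show ∀ k < 11, 9 ≤ k → ∀ g ∈ uW, g < 11 ∧ lab k g = 2 by decide +kernel)
      k hk h)

theorem uE_central (x : U 11) : Commute x uE := by
  have hx : x ∈ Subgroup.closure (g11 '' {g | g < 11}) := by rw [ug_generates]; trivial
  induction hx using Subgroup.closure_induction with
  | mem y hy => obtain ⟨k, hk, rfl⟩ := hy; exact uE_comm k hk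
  | one => exact Commute.one_left _
  | mul a b _ _ ha hb => exact ha.mul_left hb
  | inv a _ ha => exact ha.inv_left

/-- the centre element generates a normal subgroup -/
noncomputable abbrev uN : Subgroup (U 11) := Subgroup.zpowers uE

instance uN_normal : uN.Normal := by
  constructor
  intro n hn g
  obtain ⟨k, rfl⟩ := Subgroup.mem_zpowers_iff.mp hn
  rw [((uE_central g).zpow_right k).eq, mul_inv_cancel_right]
  exact Subgroup.zpow_mem_zpowers uE k

/-- the quotient by the central element -/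
abbrev Q : Type := U 11 ⧸ uN

/-- its generators -/
noncomputable def qg (k : ℕ) : Q := QuotientGroup.mk' uN (g11 k)

theorem qg_ev (w : List ℕ) : ev qg w = QuotientGroup.mk' uN (ev g11 w) := (ev_map _ _ w).symm

theorem qg_inv {k : ℕ} (hk : k < 11) : qg k * qg k = 1 := by
  rw [qg, ← map_mul, ug_inv hk, map_one]

/-- the nested number of a table generator -/
def unnum (t : ℕ) : ℕ := [8, 5, 0, 1, 2, 3, 7, 9, 4, 6].getD t 0

theorem exists_psi : ∃ ψ : Cfsg.Spor.Fi23 →* Q, ∀ k < 10, ψ (Fi23Order.gen' k) = qg k := by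
  have hun : ∀ t < 10, unnum t < 11 := by decide
  have F := Fi23Table.fit
  have hrel : ∀ r ∈ Cfsg.Spor.coxRelators Cfsg.Spor.Fi23.edges ∪ {r | r ∈ Cfsg.Spor.Fi23.extra},
      FreeGroup.lift (fun a => qg (unnum (Fi23Table.ix a))) r = 1 := by
    intro r hr
    rw [lift_eq_ev _ (fun t => qg (unnum t)) Fi23Table.ix (fun _ => rfl)
      (fun a => qg_inv (hun _ (F.ix_lt a)))]
    have key : ∀ w ∈ Fi23Table.data.words.take Fi23Table.data.nrel,
        ev (fun t => qg (unnum t)) w = 1 := by
      intro w hw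
      rw [← ev_prod_map qg unnum w]
      have hmem := (show ∀ w ∈ Fi23Table.data.words.take Fi23Table.data.nrel,
        (w.map unnum) ∈ relsN 11 ∨ (w.map unnum).reverse ∈ relsN 11 ∨ w.map unnum = uW ∨
          (w.map unnum).reverse = uW by decide +kernel) w hw
      have hu : ev qg uW = 1 := by
        rw [qg_ev]; exact (QuotientGroup.eq_one_iff _).mpr (Subgroup.mem_zpowers _)
      have hr : ∀ v, v ∈ relsN 11 → ev qg v = 1 := fun v hv => by
        rw [qg_ev, ug_rel hv, map_one]
      have hrev : ∀ v, (∀ g ∈ v, g < 11) → ev qg v.reverse = 1 → ev qg v = 1 := fun v hv h => by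
        rwa [ev_reverse qg (fun g hg => qg_inv hg) v hv, inv_eq_one] at h
      have hlt : ∀ g ∈ w.map unnum, g < 11 := by
        intro g hg
        obtain ⟨t, ht, rfl⟩ := List.mem_map.mp hg
        exact hun t (F.tables.mem_letters w (List.mem_of_mem_take hw) t ht)
      rcases hmem with h | h | h | h
      · exact hr _ h
      · exact hrev _ hlt (hr _ h)
      · rw [h, hu]
      · exact hrev _ hlt (by rw [h, hu])
    rcases F.relCover r (mem_relList.mpr hr) with h | h
    · exact key _ h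
    · have h1 := key _ h
      rw [ev_reverse (fun t => qg (unnum t)) (fun g (hg : g < 10) => qg_inv (hun g hg)) _
        (fun g hg => ?_), inv_eq_one] at h1
      · exact h1
      · exact F.tables.mem_letters _ (List.mem_of_mem_take h) g (by simpa using hg)
  refine ⟨PresentedGroup.toGroup hrel, fun k hk => ?_⟩
  obtain ⟨a, ha⟩ := F.exists_ix (Fi23Order.num_lt hk)
  show PresentedGroup.toGroup hrel (Fi23Order.gen (Fi23Order.num.getD k 0)) = _
  rw [← ha, show Fi23Order.gen (Fi23Table.ix a) = PresentedGroup.of a from F.gen_ix a,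
    PresentedGroup.toGroup.of]
  show qg (unnum (Fi23Table.ix a)) = qg k
  rw [ha, (show ∀ k < 10, unnum (Fi23Order.num.getD k 0) = k by decide) k hk]

/-- five lines forming part of an affine plane, with witnesses -/
noncomputable def planeLines : List ((ℕ × ℕ × ℕ) × List ℕ) := [
  ((0, 1, 7999), []),
  ((0, 30785, 31076), [6, 5, 4, 3, 2, 1, 0, 8, 3, 2, 1, 4, 3, 2, 5, 9, 8, 3, 2, 1, 4, 3, 2, 5, 4, 3, 6, 5, 4, 8, 3, 2, 4, 5, 6, 9, 8, 3, 2, 1, 0, 4, 3]),
  ((1, 30785, 31082), [6, 5, 4, 3, 2, 1, 0, 8, 3, 2, 1, 4, 3, 2, 5, 4, 8, 9, 8, 3, 2, 1, 4, 3, 2, 5, 4, 6, 5, 8, 3, 2, 4, 3, 5, 8, 9, 8, 3, 2, 1, 0, 4, 3, 7]),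
  ((7999, 31076, 30877), [6, 5, 4, 3, 2, 1, 0, 8, 3, 2, 1, 4, 3, 2, 5, 9, 8, 3, 2, 1, 4, 3, 2, 5, 4, 6, 5, 8, 3, 2, 4, 3, 5, 8, 9, 8, 3, 2, 1, 0, 4, 3, 2, 8, 7, 6, 5, 4, 3, 2, 1, 8, 3, 2, 4, 3, 5, 4, 6, 5, 8, 3, 2, 1, 4, 3, 2, 8, 3, 4, 5, 6]),
  ((30877, 31082, 0), [6, 5, 4, 3, 2, 1, 0, 8, 3, 2, 1, 9, 8, 3, 2, 4, 3, 5, 4, 6, 5, 8, 3, 4, 7, 6, 5, 4, 3, 2, 1, 0, 8, 3, 2, 1, 4, 3, 2, 5, 9, 8, 3, 2, 1, 4, 3, 2, 5, 4, 6, 5, 7, 8, 3, 2, 4, 3, 5, 6, 9, 8, 3, 2, 1, 0, 4, 3])]

/-- the word of `(d e c h f b g)^9` in the numbering of the table -/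
def wT : List ℕ := wW.map num

/-- the witness checks -/
noncomputable def lineOK : (ℕ × ℕ × ℕ) × List ℕ → Bool
  | ((x, y, v), w) => w.all (fun g => decide (g < 10)) &&
      Nat.beq (pathEnd Fi23Table.data.T w 0) x &&
      Nat.beq (pathEnd Fi23Table.data.T ([7] ++ w) 0) y &&
      Nat.beq (pathEnd Fi23Table.data.T ([7] ++ wT ++ w) 0) v

theorem planeLines_ok : planeLines.all lineOK = true := by decide +kernel

theorem triangle {G : Type*} [Group G] {F W e : G} (hF : F * F = 1) (hW : W * W = 1)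
    (he : e * e = 1) (hFW : Commute F W) (bF : F * e * F = e * F * e) (bW : W * e * W = e * W * e) :
    W * e * (F * W) * (W * e)⁻¹ = e * (F * W) * e⁻¹ * (F * W) := by
  have ei : e⁻¹ = e := inv_eq_of_mul_eq_one_right he
  have Wi : W⁻¹ = W := inv_eq_of_mul_eq_one_right hW
  have h1 : e * (F * W) * e = F * e * W * F * e * W := by
    calc e * (F * W) * e = e * F * (e * e) * W * e := by rw [he]; group
      _ = (e * F * e) * (e * W * e) := by group
      _ = (F * e * F) * (W * e * W) := by rw [bF, bW]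
      _ = F * e * (F * W) * e * W := by group
      _ = F * e * (W * F) * e * W := by rw [hFW.eq]
      _ = F * e * W * F * e * W := by group
  rw [mul_inv_rev, ei, Wi]
  calc W * e * (F * W) * (e * W) = W * (e * (F * W) * e) * W := by group
    _ = W * F * e * W * F * e * (W * W) := by rw [h1]; group
    _ = F * W * e * W * F * e := by rw [hW, hFW.eq]; group
    _ = F * (e * W * e) * F * e := by rw [← bW]; group
    _ = F * e * W * (e * F * e) := by group
    _ = F * e * W * (F * e * F) := by rw [bF]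
    _ = F * e * W * F * e * (W * W) * F := by rw [hW]; group
    _ = (e * (F * W) * e) * (W * F) := by rw [h1]; group
    _ = e * (F * W) * e * (F * W) := by rw [hFW.eq]

theorem plane_trivial {G : Type*} [Group G] {A B C P Q' R S : G} (hA : A * A = 1) (hB : B * B = 1)
    (hC : C * C = 1) (hP : P * P = 1) (hQ : Q' * Q' = 1) (hR : R * R = 1)
    (l1 : P = B * A) (l2 : Q' = C * A) (l3 : R = C * B) (l4 : S = Q' * P) (l5 : A = R * S) :
    A = 1 := by
  have cm : ∀ {x y : G}, x * x = 1 → y * y = 1 → (x * y) * (x * y) = 1 → x * y = y * x := by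
    intro x y hx hy h
    have := inv_eq_of_mul_eq_one_right h
    rwa [mul_inv_rev, inv_eq_of_mul_eq_one_right hx, inv_eq_of_mul_eq_one_right hy, eq_comm] at this
  have cBA : B * A = A * B := cm hB hA (by rw [← l1]; exact hP)
  have cCB : C * B = B * C := cm hC hB (by rw [← l3]; exact hR)
  calc A = C * B * (C * A * (B * A)) := by rw [← l1, ← l2, ← l3, ← l4]; exact l5
    _ = C * B * C * (A * (A * B)) := by rw [cBA]; group
    _ = B * (C * C) * B := by rw [cCB, ← mul_assoc A A B, hA]; group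
    _ = 1 := by rw [hC, mul_one, hB]

theorem node_eq : g11 10 = wE := by
  obtain ⟨ψ, hψ⟩ := exists_psi
  haveI := Fi23Cover.finite
  set W : Q := QuotientGroup.mk' uN wE with hWdef
  set F : Q := qg 10 with hFdef
  have hFF : F * F = 1 := qg_inv (by decide)
  have hWW : W * W = 1 := by rw [hWdef, ← map_mul, wE_mul, map_one]
  have hFWc : Commute F W :=
    (comm_far (k := 10) (X := wW) (by decide) (by decide +kernel)).map (QuotientGroup.mk' uN)
  have hψev : ∀ w : List ℕ, (∀ g ∈ w, g < 10) → ψ (ev Fi23Order.gen' w) = ev qg w := fun w hw => by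
    rw [ev_map]; exact ev_congr fun g hg => hψ g (hw g hg)
  have hψW : ψ (ev Fi23Order.gen' wW) = W := by
    rw [hψev wW (by decide +kernel), qg_ev]
  -- braid relations with the last node but one
  have bF : F * qg 9 * F = qg 9 * F * qg 9 := by
    simp only [hFdef, qg, ← map_mul]
    rw [ug_braid (by decide) (by decide) (by decide)]
  have bW : W * qg 9 * W = qg 9 * W * qg 9 := by
    have h := inFi23_spec (w := expand ([9] ++ wW, 3)) (by decide +kernel)
    have h2 := congrArg ψ h
    rw [map_one, hψev _ (by decide +kernel), ev_expand, ev_append, qg_ev wW, ← hWdef, pow_succ,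
      pow_two] at h2
    simp only [ev, one_mul] at h2
    have ei : (qg 9)⁻¹ = qg 9 := inv_eq_of_mul_eq_one_right (qg_inv (by decide))
    have Wi : W⁻¹ = W := inv_eq_of_mul_eq_one_right hWW
    calc W * qg 9 * W = (W * qg 9 * (W * qg 9) * (W * qg 9)) * (qg 9)⁻¹ * W⁻¹ * (qg 9)⁻¹ := by group
      _ = qg 9 * W * qg 9 := by rw [h2, one_mul, ei, Wi]
  -- the element z commutes with the image of H
  set z : Q := F * W with hzdef
  have hz : ∀ x ∈ Fi23Cover.H, Commute (ψ x) z := by
    intro x hx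
    rw [Fi23Cover.H_eq] at hx
    induction hx using Subgroup.closure_induction with
    | mem y hy =>
      obtain ⟨t, ht, rfl⟩ := hy
      obtain ⟨k, hk, rfl⟩ : ∃ k < 9, Fi23Order.num.getD k 0 = t :=
        (show ∀ t ∈ Fi23Cover.hl, ∃ k < 9, Fi23Order.num.getD k 0 = t by decide) t ht
      show Commute (ψ (Fi23Order.gen' k)) z
      rw [hψ k (by omega)]
      refine Commute.mul_right ?_ ((wE_comm hk).map (QuotientGroup.mk' uN))
      exact (ug_comm (i := k) (j := 10) (by omega) (by decide)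
        ((show ∀ k < 9, lab k 10 = 2 by decide) k hk)).map (QuotientGroup.mk' uN)
    | one => rw [map_one]; exact Commute.one_left _
    | mul a b _ _ ha hb => rw [map_mul]; exact ha.mul_left hb
    | inv a _ ha => rw [map_inv]; exact ha.inv_left
  -- conjugates of z indexed by the points
  have M := Fi23Cover.model
  let Zg : Cfsg.Spor.Fi23 → Q := fun x => ψ x * z * (ψ x)⁻¹
  have hwd : ∀ x y, M.act x ⟨0, M.tables.pos⟩ = M.act y ⟨0, M.tables.pos⟩ → Zg x = Zg y := by
    intro x y h
    have hm : x⁻¹ * y ∈ fixSub M.act [0] := fun c hc => by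
      obtain rfl : c = ⟨0, M.tables.pos⟩ := Fin.ext (by simpa using hc)
      rw [map_mul, map_inv, Equiv.Perm.mul_apply, ← h]
      exact Equiv.symm_apply_apply _ _
    rw [M.fixSub_zero] at hm
    have hc := hz _ hm
    show ψ x * z * (ψ x)⁻¹ = ψ y * z * (ψ y)⁻¹
    rw [show ψ y = ψ x * ψ (x⁻¹ * y) by rw [← map_mul, mul_inv_cancel_left],
      mul_inv_rev, ← mul_assoc _ _ (ψ x)⁻¹, mul_assoc (ψ x) _ z, hc.eq]
    group
  have hp0 : ∀ x : ℕ, ∀ w : List ℕ, (∀ g ∈ w, g < 10) → pathEnd Fi23Table.data.T w 0 = x →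
      ∀ h : x < Fi23Table.data.n, M.act (ev Fi23Order.gen w) ⟨0, M.tables.pos⟩ = ⟨x, h⟩ :=
    fun x w hw he h => Fin.ext ((M.act_ev w hw _).trans he)
  have hzz : z * z = 1 := by
    rw [hzdef, hFWc.symm.mul_mul_mul_comm, hFF, hWW, mul_one]
  have hsq : ∀ x, Zg x * Zg x = 1 := fun x => by
    show ψ x * z * (ψ x)⁻¹ * (ψ x * z * (ψ x)⁻¹) = 1
    rw [show ψ x * z * (ψ x)⁻¹ * (ψ x * z * (ψ x)⁻¹) = ψ x * (z * z) * (ψ x)⁻¹ by group, hzz,
      mul_one, mul_inv_cancel]
  classical
  let Z : ℕ → Q := fun x =>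
    if h : ∃ g, (M.act g ⟨0, M.tables.pos⟩ : ℕ) = x then Zg (Classical.choose h) else 1
  have hZ : ∀ g : Cfsg.Spor.Fi23, Zg g = Z (M.act g ⟨0, M.tables.pos⟩ : ℕ) := by
    intro g
    have h : ∃ g', (M.act g' ⟨0, M.tables.pos⟩ : ℕ) = (M.act g ⟨0, M.tables.pos⟩ : ℕ) := ⟨g, rfl⟩
    simp only [Z, dif_pos h]
    exact (hwd _ _ (Fin.ext (Classical.choose_spec h))).symm
  have hZsq : ∀ x, Z x * Z x = 1 := fun x => by
    simp only [Z]
    split
    · exact hsq _
    · exact one_mul 1
  have hline : ∀ x y v w, ((x, y, v), w) ∈ planeLines → Z v = Z y * Z x := by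
    intro x y v w hm
    have hok := List.all_eq_true.mp planeLines_ok _ hm
    simp only [lineOK, Bool.and_eq_true, List.all_eq_true, decide_eq_true_eq, Nat.beq_eq] at hok
    obtain ⟨⟨⟨hw, hx⟩, hy⟩, hv⟩ := hok
    have hw7 : ∀ g ∈ [7] ++ w, g < 10 := by
      intro g hg
      simp only [List.mem_append, List.mem_cons, List.not_mem_nil, or_false] at hg
      rcases hg with rfl | h
      · decide
      · exact hw g h
    have hw7W : ∀ g ∈ [7] ++ wT ++ w, g < 10 := by
      intro g hg
      simp only [List.mem_append, List.mem_cons, List.not_mem_nil, or_false] at hg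
      rcases hg with (rfl | h) | h
      · decide
      · exact (show ∀ g ∈ wT, g < 10 by decide +kernel) g h
      · exact hw g h
    rw [← hx, ← hy, ← hv, ← M.act_ev w hw ⟨0, M.tables.pos⟩,
      ← M.act_ev _ hw7 ⟨0, M.tables.pos⟩, ← M.act_ev _ hw7W ⟨0, M.tables.pos⟩, ← hZ, ← hZ, ← hZ]
    have e7 : ψ (ev Fi23Order.gen [7]) = qg 9 := by
      rw [← hψ 9 (by decide), show ev Fi23Order.gen [7] = Fi23Order.gen 7 by simp [ev]]
      rfl
    have eW : ψ (ev Fi23Order.gen wT) = W := by
      rw [← hψW, Fi23Order.ev' wW]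
      rfl
    simp only [Zg, ev_append, map_mul, e7, eW, mul_inv_rev]
    have ht := triangle hFF hWW (qg_inv (k := 9) (by decide)) hFWc bF bW
    rw [mul_inv_rev] at ht
    simp only [← mul_assoc] at ht ⊢
    generalize ψ (ev Fi23Order.gen w) = A at ht ⊢
    calc A * W * qg 9 * z * (qg 9)⁻¹ * W⁻¹ * A⁻¹
        = A * (W * qg 9 * z * (qg 9)⁻¹ * W⁻¹) * A⁻¹ := by group
      _ = A * (qg 9 * F * W * (qg 9)⁻¹ * F * W) * A⁻¹ := by
          rw [hzdef, ← mul_assoc (W * qg 9) F W, ht]
      _ = A * qg 9 * z * (qg 9)⁻¹ * A⁻¹ * A * z * A⁻¹ := by rw [hzdef]; group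
  have hA : Z 0 = 1 := plane_trivial (hZsq 0) (hZsq 1) (hZsq 30785) (hZsq 7999) (hZsq 31076)
    (hZsq 31082)
    (hline 0 1 7999 _ (by unfold planeLines; exact List.mem_cons_self))
    (hline 0 30785 31076 _ (by unfold planeLines; exact List.mem_cons_of_mem _ List.mem_cons_self))
    (hline 1 30785 31082 _ (by
      unfold planeLines
      exact List.mem_cons_of_mem _ (List.mem_cons_of_mem _ List.mem_cons_self)))
    (hline 7999 31076 30877 _ (by
      unfold planeLines
      exact List.mem_cons_of_mem _ (List.mem_cons_of_mem _ (List.mem_cons_of_mem _ List.mem_cons_self))))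
    (by
      have h5 := hline 30877 31082 0 _ (by
        unfold planeLines
        exact List.mem_cons_of_mem _ (List.mem_cons_of_mem _ (List.mem_cons_of_mem _
          (List.mem_cons_of_mem _ List.mem_cons_self))))
      exact h5)
  have hz1 : z = 1 := by
    have h0 := hZ 1
    rw [map_one, Equiv.Perm.one_apply] at h0
    simp only [Zg, map_one, one_mul, inv_one, mul_one] at h0
    rw [h0]; exact hA
  -- lift to the group
  have hQ : QuotientGroup.mk' uN (g11 10) = QuotientGroup.mk' uN wE := by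
    calc F = F * (W * W) := by rw [hWW, mul_one]
      _ = z * W := by rw [hzdef]; group
      _ = W := by rw [hz1, one_mul]
  obtain ⟨k, hk⟩ := Subgroup.mem_zpowers_iff.mp ((QuotientGroup.eq).mp hQ)
  have heq : g11 10 * uE ^ k = wE := by rw [hk, mul_inv_cancel_left]
  obtain ⟨χ, hχ⟩ := exists_hom (n := 11) le_rfl (by decide) (fun _ => sgn)
    (fun w hw => sgn_even (relsN_even 11 le_rfl w hw))
  have hχev : ∀ w : List ℕ, (∀ g ∈ w, g < 11) → χ (ev g11 w) = ev (fun _ => sgn) w := fun w hw => by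
    rw [ev_map]; exact ev_congr fun g hg => hχ g (hw g hg)
  have h1 := congrArg χ heq
  rw [map_mul, map_zpow, hχ 10 (by decide), hχev uW (by decide +kernel), hχev wW (by decide +kernel),
    sgn_odd (w := uW) (by decide +kernel), sgn_odd (w := wW) (by decide +kernel),
    mul_eq_left] at h1
  have h2 : (2 : ℤ) ∣ k := by
    have := orderOf_dvd_iff_zpow_eq_one.mpr h1
    rwa [orderOf_eq_prime (by decide : sgn ^ 2 = 1) (by decide : sgn ≠ 1)] at this
  obtain ⟨m, rfl⟩ := h2
  rw [zpow_mul, zpow_two, uE_mul, one_zpow, mul_one] at heq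
  exact heq

/-- the conclusion for any labelled family of generators -/
theorem node_rule {G : Type*} [Group G] (p : ℕ → G) (h : ∀ w ∈ relsN 11, ev p w = 1) :
    p 10 = ev p wW := by
  obtain ⟨φ, hφ⟩ := exists_hom (n := 11) le_rfl (by decide) p h
  have h1 := congrArg φ node_eq
  rwa [hφ 10 (by decide), ev_map, ev_congr (fun g hg => hφ g
    ((show ∀ g ∈ wW, g < 11 by decide +kernel) g hg))] at h1

end H47.Y555
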