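import Cfsg.Prelude.Def_Spor_M
import Cfsg.Agent.H47.Y555.Plane

/-!
All six relations between the end nodes and the E7 sub-diagrams follow from one spider relation.
-/

set_option autoImplicit false
set_option maxRecDepth 100000

namespace H47.Y555

open H93.Coset
open Cfsg.Spor

/-- an arm: b, c, d, e, f -/
abbrev Arm : Type := Bimonster.Gen × Bimonster.Gen × Bimonster.Gen × Bimonster.Gen × Bimonster.Gen

/-- first arm -/
def arm1 : Arm := (.b1, .c1, .d1, .e1, .f1)
/-- second arm -/
def arm2 : Arm := (.b2, .c2, .d2, .e2, .f2)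
/-- third arm -/
def arm3 : Arm := (.b3, .c3, .d3, .e3, .f3)

/-- the nested numbering of the Y532 diagram with long arm `i` -/
def labels : Arm → Arm → Arm → List Bimonster.Gen
  | (bi, ci, di, ei, fi), (bj, cj, dj, _, _), (bk, ck, _, _, _) =>
    [bj, .a, bi, ci, bk, cj, ck, di, dj, ei, fi]

/-- the labels respect the diagram -/
def labelsOK (l : List Bimonster.Gen) : Bool :=
  (List.range 11).all fun i =>
    (coxNodes Bimonster.edges).contains (l.getD i .a) && (List.range 11).all fun j =>
      coxLabel Bimonster.edges (l.getD i .a) (l.getD j .a) == lab i j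

variable {G : Type*} [Group G] (x : Bimonster.Gen → G)

/-- the spider product -/
def spiderProd (q r t : Arm) : G :=
  (x .a * x q.1 * x q.2.1 * x .a * x r.1 * x r.2.1 * x .a * x t.1 * x t.2.1) ^ 10

theorem spider_rotate {q r t : Arm} (h : spiderProd x q r t = 1) : spiderProd x r t q = 1 := by
  unfold spiderProd at h ⊢
  have e : x .a * x r.1 * x r.2.1 * x .a * x t.1 * x t.2.1 * x .a * x q.1 * x q.2.1 =
      (x .a * x q.1 * x q.2.1)⁻¹ *
        (x .a * x q.1 * x q.2.1 * x .a * x r.1 * x r.2.1 * x .a * x t.1 * x t.2.1) *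
        (x .a * x q.1 * x q.2.1)⁻¹⁻¹ := by group
  rw [e, conj_pow, h]
  group

variable (hcox : ∀ u ∈ coxNodes Bimonster.edges, ∀ v ∈ coxNodes Bimonster.edges,
  (x u * x v) ^ coxLabel Bimonster.edges u v = 1)

include hcox in
theorem rels_hold {q r t : Arm} (hl : labelsOK (labels q r t) = true)
    (hs : spiderProd x r q t = 1) :
    ∀ w ∈ relsN 11, ev (fun k => x ((labels q r t).getD k .a)) w = 1 := by
  intro w hw
  simp only [relsN, List.mem_append, List.mem_flatMap, List.mem_map, List.mem_range,
    List.mem_cons, List.not_mem_nil, or_false] at hw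
  rcases hw with ⟨i, hi, j, hj, rfl⟩ | rfl
  · rw [coxWord, ev_expand]
    simp only [labelsOK, List.all_eq_true, List.mem_range, Bool.and_eq_true, beq_iff_eq,
      List.contains_iff_mem] at hl
    rw [← (hl i hi).2 j hj]
    simp only [ev, one_mul]
    exact hcox _ (hl i hi).1 _ (hl j hj).1
  · obtain ⟨bi, ci, di, ei, fi⟩ := q
    obtain ⟨bj, cj, dj, ej, fj⟩ := r
    obtain ⟨bk, ck, dk, ek, fk⟩ := t
    rw [spiderW, ev_expand]
    simp only [ev, one_mul, labels]
    exact hs

include hcox in
theorem transpose_spider (hs : spiderProd x arm1 arm2 arm3 = 1) :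
    spiderProd x arm2 arm1 arm3 = 1 := by
  have h := rels_hold x hcox (q := arm2) (r := arm1) (t := arm3) (by decide +kernel) hs
  have h9 := word9 (fun k => x ((labels arm2 arm1 arm3).getD k .a))
    (fun w hw => h w ((show ∀ w ∈ relsN 9, w ∈ relsN 11 by decide +kernel) w hw))
    (w := expand ([6, 4, 1, 5, 0, 1, 3, 2, 1], 10)) (by decide +kernel) (by decide +kernel)
    (by decide +kernel)
  rw [ev_expand] at h9
  simp only [ev, one_mul, labels, arm1, arm2, arm3] at h9
  exact h9

include hcox in
theorem end_node {q r t : Arm} (hl : labelsOK (labels q r t) = true)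
    (hs : spiderProd x r q t = 1) :
    x q.2.2.2.2 = (x .a * x q.1 * x r.1 * x t.1 * x q.2.1 * x r.2.1 * x q.2.2.1) ^ 9 := by
  have h := node_rule (fun k => x ((labels q r t).getD k .a)) (rels_hold x hcox hl hs)
  obtain ⟨bi, ci, di, ei, fi⟩ := q
  obtain ⟨bj, cj, dj, ej, fj⟩ := r
  obtain ⟨bk, ck, dk, ek, fk⟩ := t
  rw [wW, ev_expand] at h
  simp only [ev, one_mul, labels] at h
  exact h

end H47.Y555
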