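import Cfsg.Agent.H47.Y555.L9.P0
import Cfsg.Agent.H47.Y555.L9.P1
import Cfsg.Agent.H47.Y555.L9.P2
import Cfsg.Agent.H47.Y555.L9.P3

/-!
A checked coset table (generated data).
-/

set_option autoImplicit false
set_option maxRecDepth 100000
set_option linter.all false
set_option Elab.async false

namespace H47.Y555.L9

open H93.Coset

noncomputable section

attribute [local irreducible] allRange H93.Coset.Data.edgeOK H93.Coset.Data.edgeFast

theorem edge0 : data.edgesFast 0 0 28160 = true :=
  (allRange_glue (allRange_glue (allRange_glue (allRange_glue (allRange_glue (allRange_glue (allRange_glue (allRange_glue (allRange_glue (allRange_glue (allRange_glue (allRange_glue (allRange_glue (allRange_glue (allRange_glue (allRange_glue (allRange_glue edge0_0 edge0_1) edge0_2) edge0_3) edge0_4) edge0_5) edge0_6) edge0_7) edge0_8) edge0_9) edge0_10) edge0_11) edge0_12) edge0_13) edge0_14) edge0_15) edge0_16) edge0_17)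

theorem edge1 : data.edgesFast 1 0 28160 = true :=
  (allRange_glue (allRange_glue (allRange_glue (allRange_glue (allRange_glue (allRange_glue (allRange_glue (allRange_glue (allRange_glue (allRange_glue (allRange_glue (allRange_glue (allRange_glue (allRange_glue (allRange_glue (allRange_glue (allRange_glue edge1_0 edge1_1) edge1_2) edge1_3) edge1_4) edge1_5) edge1_6) edge1_7) edge1_8) edge1_9) edge1_10) edge1_11) edge1_12) edge1_13) edge1_14) edge1_15) edge1_16) edge1_17)

theorem edge2 : data.edgesFast 2 0 28160 = true :=
  (allRange_glue (allRange_glue (allRange_glue (allRange_glue (allRange_glue (allRange_glue (allRange_glue (allRange_glue (allRange_glue (allRange_glue (allRange_glue (allRange_glue (allRange_glue (allRange_glue (allRange_glue (allRange_glue (allRange_glue edge2_0 edge2_1) edge2_2) edge2_3) edge2_4) edge2_5) edge2_6) edge2_7) edge2_8) edge2_9) edge2_10) edge2_11) edge2_12) edge2_13) edge2_14) edge2_15) edge2_16) edge2_17)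

theorem edge3 : data.edgesFast 3 0 28160 = true :=
  (allRange_glue (allRange_glue (allRange_glue (allRange_glue (allRange_glue (allRange_glue (allRange_glue (allRange_glue (allRange_glue (allRange_glue (allRange_glue (allRange_glue (allRange_glue (allRange_glue (allRange_glue (allRange_glue (allRange_glue edge3_0 edge3_1) edge3_2) edge3_3) edge3_4) edge3_5) edge3_6) edge3_7) edge3_8) edge3_9) edge3_10) edge3_11) edge3_12) edge3_13) edge3_14) edge3_15) edge3_16) edge3_17)

theorem edge4 : data.edgesFast 4 0 28160 = true :=
  (allRange_glue (allRange_glue (allRange_glue (allRange_glue (allRange_glue (allRange_glue (allRange_glue (allRange_glue (allRange_glue (allRange_glue (allRange_glue (allRange_glue (allRange_glue (allRange_glue (allRange_glue (allRange_glue (allRange_glue edge4_0 edge4_1) edge4_2) edge4_3) edge4_4) edge4_5) edge4_6) edge4_7) edge4_8) edge4_9) edge4_10) edge4_11) edge4_12) edge4_13) edge4_14) edge4_15) edge4_16) edge4_17)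

theorem edge5 : data.edgesFast 5 0 28160 = true :=
  (allRange_glue (allRange_glue (allRange_glue (allRange_glue (allRange_glue (allRange_glue (allRange_glue (allRange_glue (allRange_glue (allRange_glue (allRange_glue (allRange_glue (allRange_glue (allRange_glue (allRange_glue (allRange_glue (allRange_glue edge5_0 edge5_1) edge5_2) edge5_3) edge5_4) edge5_5) edge5_6) edge5_7) edge5_8) edge5_9) edge5_10) edge5_11) edge5_12) edge5_13) edge5_14) edge5_15) edge5_16) edge5_17)

theorem edge6 : data.edgesFast 6 0 28160 = true :=
  (allRange_glue (allRange_glue (allRange_glue (allRange_glue (allRange_glue (allRange_glue (allRange_glue (allRange_glue (allRange_glue (allRange_glue (allRange_glue (allRange_glue (allRange_glue (allRange_glue (allRange_glue (allRange_glue (allRange_glue edge6_0 edge6_1) edge6_2) edge6_3) edge6_4) edge6_5) edge6_6) edge6_7) edge6_8) edge6_9) edge6_10) edge6_11) edge6_12) edge6_13) edge6_14) edge6_15) edge6_16) edge6_17)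

theorem edge7 : data.edgesFast 7 0 28160 = true :=
  (allRange_glue (allRange_glue (allRange_glue (allRange_glue (allRange_glue (allRange_glue (allRange_glue (allRange_glue (allRange_glue (allRange_glue (allRange_glue (allRange_glue (allRange_glue (allRange_glue (allRange_glue (allRange_glue (allRange_glue edge7_0 edge7_1) edge7_2) edge7_3) edge7_4) edge7_5) edge7_6) edge7_7) edge7_8) edge7_9) edge7_10) edge7_11) edge7_12) edge7_13) edge7_14) edge7_15) edge7_16) edge7_17)

theorem edge8 : data.edgesFast 8 0 28160 = true :=
  (allRange_glue (allRange_glue (allRange_glue (allRange_glue (allRange_glue (allRange_glue (allRange_glue (allRange_glue (allRange_glue (allRange_glue (allRange_glue (allRange_glue (allRange_glue (allRange_glue (allRange_glue (allRange_glue (allRange_glue edge8_0 edge8_1) edge8_2) edge8_3) edge8_4) edge8_5) edge8_6) edge8_7) edge8_8) edge8_9) edge8_10) edge8_11) edge8_12) edge8_13) edge8_14) edge8_15) edge8_16) edge8_17)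

theorem treeRow : treeOK data 0 28160 = true :=
  (allRange_glue (allRange_glue (allRange_glue treeRow_0 treeRow_1) treeRow_2) treeRow_3)

theorem tables : Tables data where
  pos := by decide
  edges := edges_of_fast fun g hg => by
    match g, hg with
    | 0, _ => exact edge0
    | 1, _ => exact edge1
    | 2, _ => exact edge2
    | 3, _ => exact edge3
    | 4, _ => exact edge4
    | 5, _ => exact edge5
    | 6, _ => exact edge6
    | 7, _ => exact edge7
    | 8, _ => exact edge8
    | k + 9, h => exact absurd h (by show ¬ k + 9 < 9; omega)
  tree := treeRow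
  letters := by decide +kernel
  subfix := by decide +kernel

end

end H47.Y555.L9
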