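import Cfsg.Agent.H93.Fi23Cover
import Cfsg.Agent.H47.Y555.L9
import Cfsg.Agent.H47.Y555.Basic

/-!
The Y332 group with the spider relation embeds into Fi23 × 2.
-/

set_option autoImplicit false
set_option maxRecDepth 100000

namespace H47.Y555

open H93.Coset
open H93

local notation "F23gen" => Fi23Order.gen

/-- the table number of a nested generator -/
def num (k : ℕ) : ℕ := Fi23Order.num.getD k 0

/-- all relators of the tables are relators -/
def covered (D : H93.Coset.Data) : Bool :=
  (D.words.take D.nrel).all fun w => (relsN 9).contains w || (relsN 9).contains w.reverse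

theorem rel_or_rev {w : List ℕ} (hw : (relsN 9).contains w || (relsN 9).contains w.reverse) :
    ev (ug 9) w = 1 := by
  simp only [Bool.or_eq_true, List.contains_iff_mem] at hw
  rcases hw with h | h
  · exact ug_rel h
  · have h1 := ug_rel h
    rwa [ev_reverse (ug 9) (fun g hg => ug_inv hg) w (fun g hg => relsN_lt 9 (by decide) (by decide)
      _ h g (List.mem_reverse.mpr hg)), inv_eq_one] at h1

/-- the subgroup generated by the first `k` generators -/
noncomputable abbrev UK (k : ℕ) : Subgroup (U 9) := Subgroup.closure (ug 9 '' {g | g < k})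

theorem ustep (D : H93.Coset.Data) (ht : Tables D) (hng : D.ng ≤ 9) (hr : covered D = true)
    {k N : ℕ} (hs : D.words.drop D.nrel = (List.range k).map fun g => [g])
    (hfin : Finite (UK k) ∧ Nat.card (UK k) ≤ N) :
    Finite (UK D.ng) ∧ Nat.card (UK D.ng) ≤ D.n * N := by
  haveI := hfin.1
  obtain ⟨h1, h2⟩ := card_le_of_table ht
    (fun g hg => ug_inv (lt_of_lt_of_le hg hng))
    (fun w hw => rel_or_rev (List.all_eq_true.mp hr w hw)) (L := UK k) (by
      intro w hw
      rw [hs, List.mem_map] at hw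
      obtain ⟨g, hg, rfl⟩ := hw
      have h3 : ug 9 g ∈ UK k := Subgroup.subset_closure ⟨g, List.mem_range.mp hg, rfl⟩
      simpa [ev] using h3)
  exact ⟨h1, h2.trans (Nat.mul_le_mul le_rfl hfin.2)⟩

theorem U9_card_le : Finite (U 9) ∧ Nat.card (U 9) ≤ 258247006617600 := by
  have h0 : Finite (UK 0) ∧ Nat.card (UK 0) ≤ 1 := by
    have hb : UK 0 = ⊥ := by simp [UK]
    rw [hb]
    exact ⟨inferInstance, le_of_eq Subgroup.card_bot⟩
  have h5 := ustep Fi22L5.data Fi22L5.tables (by decide) (by decide +kernel) (k := 0) (by decide +kernel) h0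
  have h6 := ustep Fi22L6.data Fi22L6.tables (by decide) (by decide +kernel) (k := 5) (by decide +kernel) h5
  have h7 := ustep Fi22L7.data Fi22L7.tables (by decide) (by decide +kernel) (k := 6) (by decide +kernel) h6
  have h8 := ustep Fi23L8.data Fi23L8.tables (by decide) (by decide +kernel) (k := 7) (by decide +kernel) h7
  have h9 := ustep L9.data L9.tables (by decide) (by decide +kernel) (k := 8) (by decide +kernel) h8
  have h9' : Finite (UK 9) ∧ Nat.card (UK 9) ≤ 258247006617600 := h9
  rw [show UK 9 = ⊤ from ug_generates 9, Subgroup.card_top] at h9'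
  haveI := h9'.1
  exact ⟨Finite.of_equiv _ Subgroup.topEquiv.toEquiv, h9'.2⟩

/-- a relator word holds in Fi23 -/
noncomputable def inFi23 (w : List ℕ) : Bool := Fi23Cover.baseOne (w.map num)

theorem relsN10_Fi23 : ∀ w ∈ relsN 10, inFi23 w = true := by decide +kernel

theorem inFi23_spec {w : List ℕ} (h : inFi23 w = true) : ev Fi23Order.gen' w = 1 := by
  rw [Fi23Order.ev']
  exact Fi23Cover.baseOne_spec h

/-- the sign group -/
abbrev C2 : Type := Multiplicative (ZMod 2)

/-- the sign -/
def sgn : C2 := Multiplicative.ofAdd 1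

theorem sgn_even {w : List ℕ} (h : w.length % 2 = 0) : ev (fun _ => sgn) w = 1 := by
  have h2 : sgn ^ 2 = 1 := by decide
  rw [ev_const, show w.length = 2 * (w.length / 2) by omega, pow_mul, h2, one_pow]

theorem sgn_odd {w : List ℕ} (h : w.length % 2 = 1) : ev (fun _ => sgn) w = sgn := by
  have h2 : sgn ^ 2 = 1 := by decide
  rw [ev_const, show w.length = 2 * (w.length / 2) + 1 by omega, pow_succ, pow_mul, h2, one_pow,
    one_mul]

theorem relsN_even : ∀ n ≤ 11, ∀ w ∈ relsN n, w.length % 2 = 0 := by decide +kernel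

theorem exists_emb : ∃ φ : U 9 →* Cfsg.Spor.Fi23 × C2,
    (∀ k < 9, φ (ug 9 k) = (Fi23Order.gen' k, sgn)) ∧ Function.Injective φ := by
  obtain ⟨φ, hφ⟩ := exists_hom (n := 9) (by decide) (by decide)
    (fun k => ((Fi23Order.gen' k, sgn) : Cfsg.Spor.Fi23 × C2)) (by
      intro w hw
      refine Prod.ext ?_ ?_
      · rw [ev_fst]
        exact inFi23_spec (relsN10_Fi23 w ((show ∀ w ∈ relsN 9, w ∈ relsN 10 by decide +kernel) w hw))
      · rw [ev_snd]
        exact sgn_even (relsN_even 9 (by decide) w hw))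
  refine ⟨φ, hφ, ?_⟩
  haveI := U9_card_le.1
  haveI := Fi23Cover.finite
  have hev : ∀ w, (∀ g ∈ w, g < 9) → φ (ev (ug 9) w) = (ev Fi23Order.gen' w, ev (fun _ => sgn) w) := by
    intro w hw
    rw [ev_map, ev_congr (fun g hg => hφ g (hw g hg))]
    exact Prod.ext (ev_fst _ _ w) (ev_snd _ _ w)
  have hc : ((1, sgn) : Cfsg.Spor.Fi23 × C2) ∈ φ.range := by
    refine ⟨ev (ug 9) uW, ?_⟩
    rw [hev uW (by decide +kernel), inFi23_spec (w := uW) (by decide +kernel),
      sgn_odd (w := uW) (by decide +kernel)]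
  have hfst : Fi23Cover.H ≤ φ.range.map (MonoidHom.fst _ _) := by
    rw [Fi23Cover.H_eq]
    refine (Subgroup.closure_le _).mpr ?_
    rintro _ ⟨g, hg, rfl⟩
    obtain ⟨k, hk, rfl⟩ : ∃ k < 9, Fi23Order.num.getD k 0 = g :=
      (show ∀ g ∈ Fi23Cover.hl, ∃ k < 9, Fi23Order.num.getD k 0 = g by decide) g hg
    exact ⟨_, ⟨ug 9 k, hφ k hk⟩, rfl⟩
  have hsub : Fi23Cover.H.prod (⊤ : Subgroup C2) ≤ φ.range := by
    rintro ⟨x, t⟩ ⟨hx, -⟩
    obtain ⟨⟨x', t'⟩, hm, he⟩ := hfst hx
    simp only [MonoidHom.coe_fst] at he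
    subst he
    have ht : t = t' ∨ t = sgn * t' := (show ∀ a b : C2, a = b ∨ a = sgn * b by decide) t t'
    rcases ht with rfl | rfl
    · exact hm
    · have := mul_mem hc hm
      simpa using this
  have hge : Nat.card (U 9) ≤ Nat.card φ.range := by
    refine U9_card_le.2.trans ?_
    calc 258247006617600 = Nat.card (Fi23Cover.H.prod (⊤ : Subgroup C2)) := by
          rw [Nat.card_congr (Subgroup.prodEquiv _ _).toEquiv, Nat.card_prod, Fi23Cover.card_H,
            Subgroup.card_top]
          simp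
      _ ≤ Nat.card φ.range := Nat.card_le_card_of_injective _ (Subgroup.inclusion_injective hsub)
  have hbij : Function.Bijective φ.rangeRestrict := by
    refine (Nat.bijective_iff_surjective_and_card _).mpr ⟨φ.rangeRestrict_surjective, ?_⟩
    exact le_antisymm hge (Nat.card_le_card_of_surjective _ φ.rangeRestrict_surjective)
  intro x y h
  exact hbij.1 (Subtype.ext h)

/-- an even word that is trivial in Fi23 is trivial wherever the relators hold -/
theorem word9 {G : Type*} [Group G] (p : ℕ → G) (h : ∀ w ∈ relsN 9, ev p w = 1) {w : List ℕ}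
    (hl : ∀ g ∈ w, g < 9) (hf : inFi23 w = true) (he : w.length % 2 = 0) : ev p w = 1 := by
  obtain ⟨φ, hφ, hinj⟩ := exists_emb
  obtain ⟨χ, hχ⟩ := exists_hom (n := 9) (by decide) (by decide) p h
  have h1 : ev (ug 9) w = 1 := by
    apply hinj
    rw [map_one, ev_map, ev_congr (fun g hg => hφ g (hl g hg))]
    exact Prod.ext (by rw [ev_fst]; exact inFi23_spec hf) (by rw [ev_snd]; exact sgn_even he)
  have h2 := congrArg χ h1
  rwa [map_one, ev_map, ev_congr (fun g hg => hχ g (hl g hg))] at h2

end H47.Y555
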